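/-
Sylow 2-subgroups of `SL_n(q)`, `q` odd, with elementary abelian abelianisation.
-/
import Cfsg.Agent.H85.GLWr
import Cfsg.Agent.H9.Transport

set_option autoImplicit false

namespace Cfsg.Agent.H85

open Subgroup Equiv Matrix
open scoped commutatorElement

theorem SylSq.inf_normal {G : Type*} [Group G] [Finite G] {p : ℕ} [Fact p.Prime] (A : Subgroup G)
    [hA : A.Normal] (h : SylSq p A) (W : Sylow p G) : SqC p ((W : Subgroup G) ⊓ A) := by
  obtain ⟨Q⟩ : Nonempty (Sylow p A) := inferInstance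
  obtain ⟨P, hP⟩ := (Q.isPGroup'.map A.subtype).exists_le_sylow
  have hQ : (Q : Subgroup A) = ((P : Subgroup G) ⊓ A).subgroupOf A := by
    symm
    refine Q.is_maximal' ?_ ?_
    · exact (P.isPGroup'.to_inf_left).comap_of_injective A.subtype A.subtype_injective
    · intro x hx
      exact ⟨hP ⟨x, hx, rfl⟩, x.2⟩
  obtain ⟨g, hg⟩ := sylow_eq_map_conj P W
  have h2 : (W : Subgroup G) ⊓ A = ((P : Subgroup G) ⊓ A).map (MulAut.conj g).toMonoidHom := by
    rw [Subgroup.map_inf _ _ _ (MulAut.conj g).injective, ← hg]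
    congr 1
    ext x
    constructor
    · intro hx
      exact ⟨g⁻¹ * x * g, by simpa using hA.conj_mem x hx g⁻¹, by simp [mul_assoc]⟩
    · rintro ⟨y, hy, rfl⟩
      exact hA.conj_mem y hy g
  have h3 := (h Q).map A.subtype
  rw [hQ, subgroupOf_map_subtype, inf_assoc, inf_idem] at h3
  rw [h2]
  exact h3.map _

/-- pull a wreath datum back along an injective homomorphism -/
def WD.pull {ι L G L' : Type*} [Group L] [Group G] [Group L'] (w : WD ι L G) (f : L' →* L)
    (hf : Function.Injective f) : WD ι L' G where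
  β := w.β.comp (MonoidHom.compLeft f ι)
  σ := w.σ
  conj π _ := w.conj π _
  inj g π h := ⟨funext fun i => hf ((congrFun (w.inj _ π h).1 i).trans (map_one f).symm),
    (w.inj _ π h).2⟩

variable {F : Type*} [Field F] [Fintype F]

theorem unit_eq_of_two_pow (hq : Fintype.card F % 4 = 3) (k : ℕ) (x : Fˣ) (h : x ^ 2 ^ k = 1) :
    x = 1 ∨ x = -1 := by
  induction k generalizing x with
  | zero => left; simpa using h
  | succ k ih =>
    rw [pow_succ', pow_mul] at h
    rcases ih _ h with h1 | h1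
    · have h2 : (x : F) ^ 2 = 1 := by simpa using congrArg Units.val h1
      rcases sq_eq_one_iff.1 h2 with h3 | h3
      · left; exact Units.ext h3
      · right; exact Units.ext h3
    · exfalso
      have h2 : (x : F) ^ 2 = -1 := by simpa using congrArg Units.val h1
      exact ((FiniteField.isSquare_neg_one_iff (F := F)).1 ⟨x, by rw [← h2, sq]⟩) hq

theorem factorization_card_gl (n : ℕ) : (Nat.card (GL (Fin n) F)).factorization 2 =
    padicValNat 2 (∏ i : Fin n, (Fintype.card F ^ n - Fintype.card F ^ (i : ℕ))) := by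
  rw [card_GL_field, Nat.factorization_def _ Nat.prime_two]

theorem sylSq_sl_of_ker {ι : Type*} [Fintype ι] [DecidableEq ι]
    (h : SylSq 2 (GeneralLinearGroup.det : GL ι F →* Fˣ).ker) : SylSq 2 (SpecialLinearGroup ι F) :=
  SylSq.of_equiv H9.slEquivKerDet.symm h

theorem exists_sylow_gl2 (hq : Fintype.card F % 4 = 3) :
    ∃ (D : Sylow 2 (GL (Fin 2) F)) (r : GL (Fin 2) F), r ∈ D ∧ r * r = 1 ∧
      GeneralLinearGroup.det r = -1 ∧
      SqC 2 ((D : Subgroup (GL (Fin 2) F)) ⊓ (GeneralLinearGroup.det : GL (Fin 2) F →* Fˣ).ker) ∧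
      (∀ d ∈ (D : Subgroup (GL (Fin 2) F)), GeneralLinearGroup.det d = 1 ∨
        GeneralLinearGroup.det (d * r) = 1) ∧
      Nat.card D = 2 ^ (padicValNat 2 (Fintype.card F ^ 2 - 1) + 1) := by
  have hF : Odd (Fintype.card F) := Nat.odd_iff.2 (by omega)
  have hr : (!![1, 0; 0, -1] : Matrix (Fin 2) (Fin 2) F) * !![1, 0; 0, -1] = 1 := by
    simp [one_fin_two]
  let r : GL (Fin 2) F := ⟨_, _, hr, hr⟩
  have hr2 : r * r = 1 := Units.ext hr
  have hp : IsPGroup 2 (zpowers r) := by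
    rintro ⟨_, k, rfl⟩
    refine ⟨1, Subtype.ext ?_⟩
    change (r ^ k) ^ 2 ^ 1 = 1
    rw [pow_one, ← _root_.zpow_natCast, ← _root_.zpow_mul, mul_comm, _root_.zpow_mul, _root_.zpow_natCast, pow_two, hr2,
      _root_.one_zpow]
  obtain ⟨D, hD⟩ := hp.exists_le_sylow
  have hdet : GeneralLinearGroup.det r = -1 := Units.ext (by simp [r, det_fin_two])
  refine ⟨D, r, hD (mem_zpowers r), hr2, hdet,
    SylSq.inf_normal _ (SylSq.of_equiv H9.slEquivKerDet (sylSq_sl2 hF)) D, fun d hd => ?_, ?_⟩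
  · obtain ⟨k, hk⟩ := D.isPGroup' ⟨d, hd⟩
    have h1 : d ^ 2 ^ k = 1 := congrArg Subtype.val hk
    rcases unit_eq_of_two_pow hq k (GeneralLinearGroup.det d) (by rw [← map_pow, h1, map_one])
      with h | h
    · exact Or.inl h
    · right; rw [map_mul, h, hdet]; simp
  · rw [D.card_eq_multiplicity, factorization_card_gl]
    have := val2_gl_three_mod hq 1
    simp only [mul_one, one_mul, Nat.factorial_one, padicValNat_one_right, add_zero] at this
    exact congrArg _ this

theorem sylSq_gl_even (hq : Fintype.card F % 4 = 3) (m : ℕ) : SylSq 2 (GL (Fin (2 * m)) F) := by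
  classical
  obtain ⟨D, r, hr, hr2, -, hsq, hD, hcard⟩ := exists_sylow_gl2 hq
  obtain ⟨w, -, -⟩ := exists_glWD (Fin 2) (Fin m) F (n := 2 * m) (by simp)
  obtain ⟨T⟩ : Nonempty (Sylow 2 (Perm (Fin m))) := inferInstance
  refine SylSq.of_sub (w.isPGroup_W D.isPGroup' T.isPGroup') ?_ (w.sqC_W ?_ (sylSq_perm 2 m T))
  · rw [w.card_W, hcard, card_sylow_perm, factorization_card_gl, val2_gl_three_mod hq,
      Fintype.card_fin, ← pow_mul, ← pow_add, mul_comm]
  · rw [sqC_iff_le]
    intro d hd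
    rcases hD d hd with h | h
    · exact hsq.le_sqN inf_le_left (mem_inf.2 ⟨hd, h⟩)
    · have : d = d * r * r := by rw [mul_assoc, hr2, mul_one]
      rw [this]
      exact mul_mem (hsq.le_sqN inf_le_left (mem_inf.2 ⟨mul_mem hd hr, h⟩)) (mem_sqN_two hr hr2)

theorem sylSq_sl_even (hq : Fintype.card F % 4 = 3) {m : ℕ} (hm : 1 ≤ m) :
    SylSq 2 (SpecialLinearGroup (Fin (2 * m)) F) := by
  classical
  obtain ⟨D, r, hr, hr2, hdet, hsq, hD, hcard⟩ := exists_sylow_gl2 hq
  obtain ⟨w, hβ, hσ⟩ := exists_glWD (Fin 2) (Fin m) F (n := 2 * m) (by simp)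
  obtain ⟨T⟩ : Nonempty (Sylow 2 (Perm (Fin m))) := inferInstance
  refine sylSq_sl_of_ker (SylSq.of_normal' _ (w.isPGroup_W D.isPGroup' T.isPGroup') ?_ ?_)
  · rw [w.card_W, hcard, card_sylow_perm, factorization_card_gl, val2_gl_three_mod hq,
      Fintype.card_fin, ← pow_mul, ← pow_add, mul_comm]
  set A := (GeneralLinearGroup.det : GL (Fin (2 * m)) F →* Fˣ).ker with hA
  have hins : ∀ i d, GeneralLinearGroup.det (w.ins i d) = GeneralLinearGroup.det d := by
    intro i d
    rw [w.ins_apply, hβ, Finset.prod_eq_single i]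
    · simp
    · intro j _ hj; simp [Pi.mulSingle_eq_of_ne hj]
    · simp
  have hT : ∀ t ∈ (T : Subgroup (Perm (Fin m))), w.σ t ∈ sqN 2 (w.W D T ⊓ A) := by
    refine (genP_perm 2 _ T).le (K := (sqN 2 _).comap w.σ) fun t ht h1 => ?_
    refine mem_sqN_of_pow_eq_one (mem_inf.2 ⟨w.σ_mem_W _ ht, ?_⟩) (by rw [← map_pow, h1, map_one])
    refine Units.ext ?_
    rw [hσ, Fintype.card_fin, Int.units_sq]; simp
  have hQ : ∀ i, ∀ d ∈ (D : Subgroup (GL (Fin 2) F)), GeneralLinearGroup.det d = 1 →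
      w.ins i d ∈ sqN 2 (w.W D T ⊓ A) := by
    intro i d hd h1
    refine (hsq.map (w.ins i)).le_sqN ?_ ⟨d, mem_inf.2 ⟨hd, h1⟩, rfl⟩
    rintro _ ⟨x, hx, rfl⟩
    exact mem_inf.2 ⟨w.single_mem_W _ i (mem_inf.1 hx).1, (hins i x).trans (mem_inf.1 hx).2⟩
  have hτ2 : ∀ i, w.ins i r * w.ins i r = 1 := fun i => by rw [← map_mul, hr2, map_one]
  have hτW : ∀ i, w.ins i r ∈ w.W D T := fun i => w.single_mem_W _ i hr
  let i0 : Fin m := ⟨0, hm⟩
  have hrr : ∀ i, w.ins i r ∈ sqN 2 (w.W D T ⊓ A) ⊔ zpowers (w.ins i0 r) := by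
    intro i
    have h1 : w.ins i r * w.ins i0 r ∈ sqN 2 (w.W D T ⊓ A) := by
      refine mem_sqN_two (mem_inf.2 ⟨mul_mem (hτW i) (hτW i0), ?_⟩) ?_
      · rw [hA, MonoidHom.mem_ker, map_mul, hins, hins, hdet]; simp
      · by_cases h : i = i0
        · rw [h, hτ2, one_mul]
        · rw [mul_assoc, ← mul_assoc (w.ins i0 r), ← w.ins_comm h, mul_assoc, hτ2, mul_one, hτ2]
    have h2 : w.ins i r = w.ins i r * w.ins i0 r * w.ins i0 r := by
      rw [mul_assoc, hτ2, mul_one]
    rw [h2]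
    exact mul_mem (mem_sup_left h1) (mem_sup_right (mem_zpowers _))
  refine sqC_inf_of_le_sup (Γ := zpowers (w.ins i0 r)) (zpowers_le_of_mem (hτW i0)) ?_
    (w.W_le (fun i d hd => ?_) fun t ht => mem_sup_left (hT t ht))
  · rintro _ ⟨k, rfl⟩ hx
    refine mem_sqN_of_pow_eq_one (mem_inf.2 ⟨zpow_mem (hτW i0) k, hx⟩) ?_
    rw [← _root_.zpow_natCast, ← _root_.zpow_mul, mul_comm k, _root_.zpow_mul, _root_.zpow_natCast, pow_two, hτ2, _root_.one_zpow]
  · rcases hD d hd with h | h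
    · exact mem_sup_left (hQ i d hd h)
    · have : w.β (Pi.mulSingle i d) = w.ins i (d * r) * w.ins i r := by
        rw [← map_mul, mul_assoc, hr2, mul_one]; rfl
      rw [this]
      exact mul_mem (mem_sup_left (hQ i _ (mul_mem hd hr) h)) (hrr i)

/-- `GL ι ≤ SL (ι ⊕ Unit)` -/
def glToSl (ι R : Type*) [Fintype ι] [DecidableEq ι] [CommRing R] :
    GL ι R →* SpecialLinearGroup (ι ⊕ Unit) R :=
  MonoidHom.mk' (fun g => ⟨fromBlocks (g : Matrix ι ι R) 0 0
      (diagonal fun _ => ((GeneralLinearGroup.det g)⁻¹ : Rˣ)), by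
      rw [det_fromBlocks_zero₂₁, det_diagonal, Finset.prod_const, Finset.card_univ,
        Fintype.card_unit, pow_one]
      exact (GeneralLinearGroup.det g).mul_inv⟩)
    fun g h => Subtype.ext (by
      change fromBlocks _ _ _ _ = fromBlocks _ _ _ _ * fromBlocks _ _ _ _
      rw [fromBlocks_multiply, diagonal_mul_diagonal]
      simp only [map_mul, mul_inv, Units.val_mul, Matrix.mul_zero, Matrix.zero_mul, add_zero,
        zero_add])

theorem glToSl_injective (ι R : Type*) [Fintype ι] [DecidableEq ι] [CommRing R] :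
    Function.Injective (glToSl ι R) := fun _ _ h =>
  Units.ext (fromBlocks_inj.1 (congrArg Subtype.val h)).1

theorem sylSq_sl_odd (hq : Fintype.card F % 4 = 3) (m : ℕ) :
    SylSq 2 (SpecialLinearGroup (Fin (2 * m + 1)) F) := by
  classical
  have h1 := Fintype.one_lt_card (α := F)
  have hF : Odd (Fintype.card F) := Nat.odd_iff.2 (by omega)
  let e : Fin (2 * m) ⊕ Unit ≃ Fin (2 * m + 1) := Fintype.equivFinOfCardEq (by simp)
  refine SylSq.of_inj' ((H9.slReindexEquiv e).toMonoidHom.comp (glToSl _ F))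
    ((H9.slReindexEquiv e).injective.comp (glToSl_injective _ F)) ?_ (sylSq_gl_even hq m)
  have h2 := congrArg (padicValNat 2) (H9.card_sl_fin (F := F) (2 * m + 1) (by omega))
  rw [padicValNat.mul (by omega) Nat.card_pos.ne', val2_gl_succ h1 hF,
    val2_pow_three_mod hq (odd_two_mul_add_one m), val2_eq_one (n := Fintype.card F - 1) (by omega)]
    at h2
  rw [factorization_card_gl, Nat.factorization_def _ Nat.prime_two]
  omega

theorem sylSq_sl_two_pow (hq : Fintype.card F % 4 = 1) {n k : ℕ} (hn : n = 2 ^ k) :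
    SylSq 2 (SpecialLinearGroup (Fin n) F) := by
  classical
  have h1 := Fintype.one_lt_card (α := F)
  obtain ⟨w0, hβ0, hσ0⟩ := exists_glWD (Fin 1) (Fin n) F (n := n) (by simp)
  have hinj : Function.Injective (GeneralLinearGroup.scalar (Fin 1) : Fˣ →* GL (Fin 1) F) := by
    intro a b h
    have := congrArg GeneralLinearGroup.det h
    simpa using this
  let w := w0.pull _ hinj
  have hβ : ∀ f, GeneralLinearGroup.det (w.β f) = ∏ i, f i := fun f => by
    refine (hβ0 _).trans ?_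
    simp
  have hσ : ∀ t, ((GeneralLinearGroup.det (w.σ t) : Fˣ) : F) = ((Perm.sign t : ℤˣ) : ℤ) := by
    intro t
    refine (hσ0 _).trans ?_
    simp
  clear_value w
  obtain ⟨u, hu⟩ : IsSquare (-1 : F) := FiniteField.isSquare_neg_one_iff.2 (by omega)
  have hu0 : u ≠ 0 := by rintro rfl; simp at hu
  let υ : Fˣ := Units.mk0 u hu0
  have hυ : υ * υ = -1 := Units.ext hu.symm
  obtain ⟨C⟩ : Nonempty (Sylow 2 Fˣ) := inferInstance
  have hυC : υ ∈ (C : Subgroup Fˣ) := by
    have hp : IsPGroup 2 (zpowers υ) := by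
      rintro ⟨_, k, rfl⟩
      refine ⟨2, Subtype.ext ?_⟩
      change (υ ^ k) ^ 2 ^ 2 = 1
      rw [← _root_.zpow_natCast, ← _root_.zpow_mul, mul_comm, _root_.zpow_mul, _root_.zpow_natCast, pow_two, pow_mul, pow_two υ,
        hυ, neg_one_sq, _root_.one_zpow]
    obtain ⟨D, hD⟩ := hp.exists_le_sylow
    have : Unique (Sylow 2 Fˣ) := Sylow.unique_of_normal C inferInstance
    rw [Subsingleton.elim C D]
    exact hD (mem_zpowers υ)
  have hm1 : (-1 : Fˣ) ∈ (C : Subgroup Fˣ) := hυ ▸ mul_mem hυC hυC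
  obtain ⟨T⟩ : Nonempty (Sylow 2 (Perm (Fin n))) := inferInstance
  refine sylSq_sl_of_ker (SylSq.of_normal' _ (w.isPGroup_W C.isPGroup' T.isPGroup') ?_ ?_)
  · rw [w.card_W, C.card_eq_multiplicity, card_sylow_perm, factorization_card_gl,
      val2_gl_one_mod h1 hq, Fintype.card_fin, ← pow_mul, ← pow_add, mul_comm, Nat.card_units,
      Nat.card_eq_fintype_card, Nat.factorization_def _ Nat.prime_two]
  set A := (GeneralLinearGroup.det : GL (Fin n) F →* Fˣ).ker with hA
  set P := w.W C T ⊓ A with hP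
  have hins : ∀ i d, GeneralLinearGroup.det (w.ins i d) = d := by
    intro i d
    rw [w.ins_apply, hβ, Finset.prod_eq_single i]
    · simp
    · intro j _ hj; simp [Pi.mulSingle_eq_of_ne hj]
    · simp
  have hcomm : ∀ i j c d, w.ins i c * w.ins j d = w.ins j d * w.ins i c := by
    intro i j c d
    rw [w.ins_apply, w.ins_apply, ← map_mul, ← map_mul, mul_comm]
  have hi0 : 0 < n := hn ▸ pow_pos two_pos k
  let i0 : Fin n := ⟨0, hi0⟩
  -- the elements `a c i j`
  let a : Fˣ → Fin n → Fin n → GL (Fin n) F := fun c i j => w.ins i c * (w.ins j c)⁻¹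
  have haP : ∀ c ∈ (C : Subgroup Fˣ), ∀ i j, a c i j ∈ P := fun c hc i j =>
    mem_inf.2 ⟨mul_mem (w.single_mem_W _ i hc) (inv_mem (w.single_mem_W _ j hc)), by
      rw [hA, MonoidHom.mem_ker, map_mul, map_inv, hins, hins, mul_inv_cancel]⟩
  -- lifts
  have hlift : ∀ t ∈ (T : Subgroup (Perm (Fin n))), ∃ ε : Fˣ, (ε = 1 ∨ ε = -1) ∧
      w.ins i0 ε * w.σ t ∈ P := by
    intro t ht
    rcases Int.units_eq_one_or (Perm.sign t) with h | h
    · refine ⟨1, Or.inl rfl, mem_inf.2 ⟨mul_mem (w.single_mem_W _ _ (one_mem _)) (w.σ_mem_W _ ht),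
        Units.ext ?_⟩⟩
      rw [map_mul, hins, one_mul, hσ, h]; simp
    · refine ⟨-1, Or.inr rfl, mem_inf.2 ⟨mul_mem (w.single_mem_W _ _ hm1) (w.σ_mem_W _ ht),
        Units.ext ?_⟩⟩
      rw [map_mul, hins, Units.val_mul, hσ, h]; simp
  have hconj : ∀ ε t i c, w.ins i0 ε * w.σ t * w.ins i c * (w.ins i0 ε * w.σ t)⁻¹ =
      w.ins (t i) c := by
    intro ε t i c
    have := w.conj_single t i c
    rw [← w.ins_apply, ← w.ins_apply] at this
    calc _ = w.ins i0 ε * (w.σ t * w.ins i c * (w.σ t)⁻¹) * (w.ins i0 ε)⁻¹ := by group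
      _ = _ := by rw [this, hcomm, mul_inv_cancel_right]
  have haN : ∀ c ∈ (C : Subgroup Fˣ), ∀ i j, a c i j ∈ sqN 2 P := by
    intro c hc
    let K : Subgroup (Perm (Fin n)) :=
      { carrier := {t | ∀ i, a c i (t i) ∈ sqN 2 P}
        mul_mem' := by
          intro s t hs ht i
          have := mul_mem (ht i) (hs (t i))
          simpa [a, mul_assoc] using this
        one_mem' := by intro i; simp [a]
        inv_mem' := by
          intro s hs i
          have := inv_mem (hs (s⁻¹ i))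
          simpa [a] using this }
    have hTK : (T : Subgroup (Perm (Fin n))) ≤ K := by
      refine (genP_perm 2 _ T).le fun t ht h2 i => ⟨haP c hc _ _, ?_⟩
      obtain ⟨ε, -, hε⟩ := hlift t ht
      have h3 : t (t i) = i := by rw [← Perm.mul_apply, ← pow_two, h2, Perm.one_apply]
      have h4 : a c i (t i) ^ 2 = ⁅a c i (t i), w.ins i0 ε * w.σ t⁆ := by
        have h5 : w.ins i0 ε * w.σ t * (a c i (t i))⁻¹ * (w.ins i0 ε * w.σ t)⁻¹ = a c i (t i) := by
          have e1 := hconj ε t (t i) c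
          have e2 := hconj ε t i c
          rw [h3] at e1
          calc _ = (w.ins i0 ε * w.σ t * w.ins (t i) c * (w.ins i0 ε * w.σ t)⁻¹) *
              (w.ins i0 ε * w.σ t * w.ins i c * (w.ins i0 ε * w.σ t)⁻¹)⁻¹ := by
                simp only [a]; group
            _ = _ := by rw [e1, e2]
        rw [commutatorElement_def, pow_two]
        nth_rewrite 2 [← h5]
        group
      rw [h4]
      exact commutator_mem_commutator (haP c hc _ _) hε
    intro i j
    obtain ⟨t, ht, rfl⟩ := sylow_perm_trans 2 hn T i j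
    exact hTK ht i
  refine sqC_inf_of_le_sup (Γ := (C : Subgroup Fˣ).map (w.ins i0)) (w.map_ins_le _ _ _) ?_
    (w.W_le (fun i d hd => ?_) ?_)
  · rintro _ ⟨c, _, rfl⟩ hx
    rw [hA, MonoidHom.mem_ker, hins] at hx
    rw [hx, map_one]; exact one_mem _
  · have : w.β (Pi.mulSingle i d) = a d i i0 * w.ins i0 d := by
      simp only [a, inv_mul_cancel_right]; rfl
    rw [this]
    exact mul_mem (mem_sup_left (haN d hd i i0)) (mem_sup_right ⟨d, hd, rfl⟩)
  · refine (genP_perm 2 _ T).le (K := (_ ⊔ _ : Subgroup _).comap w.σ) fun t ht h2 => ?_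
    obtain ⟨ε, hε1, hε⟩ := hlift t ht
    have hεC : ε ∈ (C : Subgroup Fˣ) := by rcases hε1 with rfl | rfl; exacts [one_mem _, hm1]
    have h3 : w.σ t = (w.ins i0 ε)⁻¹ * (w.ins i0 ε * w.σ t) := by group
    rw [mem_comap, h3]
    refine mul_mem (mem_sup_right (inv_mem ⟨ε, hεC, rfl⟩)) (mem_sup_left ⟨hε, ?_⟩)
    have h4 : (w.ins i0 ε * w.σ t) ^ 2 = w.ins i0 ε * w.ins (t i0) ε := by
      have := w.conj_single t i0 ε
      rw [← w.ins_apply, ← w.ins_apply] at this
      have h5 : w.σ t * w.σ t = 1 := by rw [← map_mul, ← pow_two, h2, map_one]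
      rw [← this, inv_eq_of_mul_eq_one_right h5, pow_two]; group
    rw [h4]
    rcases hε1 with rfl | rfl
    · simp
    · have h6 : w.ins i0 (-1) * w.ins (t i0) (-1) = a υ i0 (t i0) ^ 2 := by
        have e1 : (-1 : Fˣ) = υ⁻¹ * υ⁻¹ := by rw [← mul_inv, hυ]; simp
        nth_rewrite 1 [← hυ]
        rw [e1, pow_two]
        simp only [a, map_mul, ← map_inv]
        rw [mul_assoc, mul_assoc, ← mul_assoc (w.ins (t i0) υ⁻¹), hcomm (t i0) i0, mul_assoc]
      rw [h6]
      exact (haN υ hυC _ _).2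

end Cfsg.Agent.H85
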