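/-
Sylow 2-subgroups of `G₂(q)`, `q` odd, have elementary abelian abelianisation.
-/
import Cfsg.Agent.H85.G2Ord
import Cfsg.Agent.H85.SLSyl

set_option autoImplicit false

namespace Cfsg.Agent.H85

open Subgroup Matrix Cfsg.Lie Equiv
open scoped commutatorElement

variable {F : Type*} [Field F]

/-- Cayley–Dickson doubling of the `2 × 2` matrices -/
def cdMul (x y : Matrix (Fin 2) (Fin 2) F × Matrix (Fin 2) (Fin 2) F) :
    Matrix (Fin 2) (Fin 2) F × Matrix (Fin 2) (Fin 2) F :=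
  (x.1 * y.1 - adjugate y.2 * x.2, y.2 * x.1 + x.2 * adjugate y.1)

/-- Zorn coordinates versus pairs of matrices -/
def cdEquiv : (Fin 8 → F) ≃ₗ[F] Matrix (Fin 2) (Fin 2) F × Matrix (Fin 2) (Fin 2) F where
  toFun x := (!![x 0, x 3; x 6, x 7], !![x 1, x 5; x 2, -x 4])
  map_add' x y := by
    refine Prod.ext ?_ ?_ <;> ext i j <;> fin_cases i <;> fin_cases j <;> simp [add_comm]
  map_smul' c x := by
    refine Prod.ext ?_ ?_ <;> ext i j <;> fin_cases i <;> fin_cases j <;> simp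
  invFun p := ![p.1 0 0, p.2 0 0, p.2 1 0, p.1 0 1, -p.2 1 1, p.2 0 1, p.1 1 0, p.1 1 1]
  left_inv x := by apply fin8_ext <;> simp
  right_inv p := by
    refine Prod.ext ?_ ?_ <;> ext i j <;> fin_cases i <;> fin_cases j <;> simp

theorem cdEquiv_apply (x : Fin 8 → F) :
    cdEquiv x = (!![x 0, x 3; x 6, x 7], !![x 1, x 5; x 2, -x 4]) := rfl

theorem cdEquiv_mul (x y : Fin 8 → F) : cdEquiv (zornMul x y) = cdMul (cdEquiv x) (cdEquiv y) := by
  rw [zorn_eq, cdEquiv_apply, cdEquiv_apply, cdEquiv_apply, cdMul]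
  refine Prod.ext ?_ ?_ <;> ext i j <;> fin_cases i <;> fin_cases j <;>
    simp [adjugate_fin_two] <;> ring

theorem adjugate_conj (c : GL (Fin 2) F) (y : Matrix (Fin 2) (Fin 2) F) :
    adjugate (c.1 * y * c⁻¹.1) = c.1 * adjugate y * c⁻¹.1 := by
  have h1 : adjugate c⁻¹.1 = c⁻¹.1.det • c.1 := by
    calc adjugate c⁻¹.1 = adjugate c⁻¹.1 * (c⁻¹.1 * c.1) := by rw [c.inv_mul, mul_one]
      _ = _ := by rw [← mul_assoc, adjugate_mul, smul_mul_assoc, one_mul]
  have h2 : adjugate c.1 = c.1.det • c⁻¹.1 := by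
    calc adjugate c.1 = adjugate c.1 * (c.1 * c⁻¹.1) := by rw [c.mul_inv, mul_one]
      _ = _ := by rw [← mul_assoc, adjugate_mul, smul_mul_assoc, one_mul]
  rw [adjugate_mul_distrib, adjugate_mul_distrib, h1, h2, mul_smul_comm, smul_mul_assoc,
    mul_smul_comm, smul_smul, ← det_mul, c.inv_mul, det_one, one_smul, mul_assoc]

/-- conjugation by `c` as a linear map -/
def conjL (c : GL (Fin 2) F) : Matrix (Fin 2) (Fin 2) F ≃ₗ[F] Matrix (Fin 2) (Fin 2) F where
  toFun x := c.1 * x * c⁻¹.1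
  map_add' x y := by rw [mul_add, add_mul]
  map_smul' a x := by simp
  invFun x := c⁻¹.1 * x * c.1
  left_inv x := by
    simp only [← mul_assoc, Units.inv_mul, one_mul, Units.inv_mul_cancel_right]
  right_inv x := by
    simp only [← mul_assoc, Units.mul_inv, one_mul, Units.mul_inv_cancel_right]

/-- left multiplication as a linear map -/
def lmulL (c : SpecialLinearGroup (Fin 2) F) :
    Matrix (Fin 2) (Fin 2) F ≃ₗ[F] Matrix (Fin 2) (Fin 2) F where
  toFun x := c.1 * x
  map_add' x y := by rw [mul_add]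
  map_smul' a x := by simp
  invFun x := c⁻¹.1 * x
  left_inv x := by
    change c⁻¹.1 * (c.1 * x) = x
    rw [← mul_assoc, show c⁻¹.1 * c.1 = 1 from congrArg Subtype.val (inv_mul_cancel c), one_mul]
  right_inv x := by
    change c.1 * (c⁻¹.1 * x) = x
    rw [← mul_assoc, show c.1 * c⁻¹.1 = 1 from congrArg Subtype.val (mul_inv_cancel c), one_mul]

/-- `GL₂` acting by conjugation on both halves -/
def cdΦ : GL (Fin 2) F →* AutM F (cdMul (F := F)) :=
  MonoidHom.mk' (fun c => ⟨(conjL c).prodCongr (conjL c), fun x y => by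
      change (c.1 * _ * c⁻¹.1, c.1 * _ * c⁻¹.1) =
        cdMul (c.1 * x.1 * c⁻¹.1, c.1 * x.2 * c⁻¹.1) (c.1 * y.1 * c⁻¹.1, c.1 * y.2 * c⁻¹.1)
      simp only [cdMul, adjugate_conj, mul_sub, sub_mul, mul_add, add_mul, ← mul_assoc,
        Units.inv_mul_cancel_right]⟩)
    fun c d => AutM_ext fun x => by
      change ((c * d).1 * _ * (c * d)⁻¹.1, (c * d).1 * _ * (c * d)⁻¹.1) =
        (c.1 * (d.1 * _ * d⁻¹.1) * c⁻¹.1, c.1 * (d.1 * _ * d⁻¹.1) * c⁻¹.1)
      simp only [_root_.mul_inv_rev, Units.val_mul, mul_assoc]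

theorem cdΦ_apply (c : GL (Fin 2) F) (x) :
    (cdΦ c).1 x = (c.1 * x.1 * c⁻¹.1, c.1 * x.2 * c⁻¹.1) := rfl

/-- `SL₂` acting on the second half -/
def cdΨ : SpecialLinearGroup (Fin 2) F →* AutM F (cdMul (F := F)) :=
  MonoidHom.mk' (fun c => ⟨(LinearEquiv.refl F _).prodCongr (lmulL c), fun x y => by
      change ((cdMul x y).1, c.1 * (cdMul x y).2) = cdMul (x.1, c.1 * x.2) (y.1, c.1 * y.2)
      simp only [cdMul, adjugate_mul_distrib, mul_add, mul_assoc]
      rw [← mul_assoc (adjugate c.1), adjugate_mul, c.2, one_smul, one_mul]⟩)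
    fun c d => AutM_ext fun x => Prod.ext rfl (mul_assoc c.1 d.1 x.2)

theorem cdΨ_apply (c : SpecialLinearGroup (Fin 2) F) (x) : (cdΨ c).1 x = (x.1, c.1 * x.2) := rfl

theorem cdΨ_injective : Function.Injective (cdΨ (F := F)) :=
  (injective_iff_map_eq_one _).2 fun c h => Subtype.ext (by
    have := congrArg (fun g : AutM F (cdMul (F := F)) => (g.1 (0, 1)).2) h
    simpa [cdΨ_apply] using this)

theorem mem_center_of_cdΦ (c : GL (Fin 2) F) (h : ∀ x, ((cdΦ c).1 x).1 = x.1) :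
    c ∈ center (GL (Fin 2) F) := by
  rw [mem_center_iff]
  intro g
  have := h (g.1, 0)
  rw [cdΦ_apply] at this
  refine Units.ext ?_
  rw [Units.val_mul, Units.val_mul]
  conv_lhs => rw [← show c.1 * g.1 * c⁻¹.1 = g.1 from this]
  rw [Units.inv_mul_cancel_right]

theorem cdΦ_scalar (a : Fˣ) : cdΦ (GeneralLinearGroup.scalar (Fin 2) a) = 1 := by
  refine AutM_ext fun x => ?_
  have h : ∀ y : Matrix (Fin 2) (Fin 2) F, (GeneralLinearGroup.scalar (Fin 2) a).1 * y *
      (GeneralLinearGroup.scalar (Fin 2) a)⁻¹.1 = y := fun y => by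
    have : (GeneralLinearGroup.scalar (Fin 2) a).1 * y = y * (GeneralLinearGroup.scalar (Fin 2) a).1 :=
      (Matrix.scalar_commute (a : F) (fun _ => Commute.all _ _) y).eq
    rw [this, Units.mul_inv_cancel_right]
  rw [cdΦ_apply, h, h]; rfl

/-- monomial matrices -/
def diagWD (ι F : Type*) [Fintype ι] [DecidableEq ι] [Field F] : WD ι Fˣ (GL ι F) where
  β := ((diagonalRingHom ι F).toMonoidHom.comp (MonoidHom.compLeft (Units.coeHom F) ι)).toHomUnits
  σ := (permMatrixHom (R := F)).toHomUnits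
  conj π f := Units.ext (by
    change (π⁻¹).permMatrix F * diagonal (fun i => (f i : F)) =
      diagonal (fun i => (f (π⁻¹ i) : F)) * (π⁻¹).permMatrix F
    rw [PEquiv.toMatrix_toPEquiv_mul, PEquiv.mul_toMatrix_toPEquiv]
    ext i j
    change diagonal (fun i => (f i : F)) (π⁻¹ i) j = diagonal (fun i => (f (π⁻¹ i) : F)) i (π j)
    simp only [diagonal_apply, Perm.inv_eq_iff_eq])
  inj f π h := by
    have h0 : diagonal (fun i => (f i : F)) = (π⁻¹).permMatrix F := congrArg Units.val h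
    have h1 : π = 1 := by
      ext i
      by_contra hne
      have := congrFun (congrFun h0 (π i)) i
      rw [diagonal_apply_ne _ (by simpa using hne)] at this
      simp [Perm.permMatrix, PEquiv.toMatrix_apply] at this
    subst h1
    refine ⟨funext fun i => Units.ext ?_, rfl⟩
    simpa using congrFun (congrFun h0 i) i

variable [Fintype F]

theorem sqC_map_gl2 (hF : Odd (Fintype.card F)) {G : Type*} [Group G] (Φ : GL (Fin 2) F →* G)
    (hΦ : ∀ a, Φ (GeneralLinearGroup.scalar (Fin 2) a) = 1) (S : Sylow 2 (GL (Fin 2) F)) :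
    SqC 2 ((S : Subgroup (GL (Fin 2) F)).map Φ) := by
  classical
  have h1 := Fintype.one_lt_card (α := F)
  have ho := Nat.odd_iff.1 hF
  by_cases hq : Fintype.card F % 4 = 3
  · exact (sylSq_gl_even hq 1 S).map Φ
  have hq' : Fintype.card F % 4 = 1 := by omega
  obtain ⟨C⟩ : Nonempty (Sylow 2 Fˣ) := inferInstance
  obtain ⟨T⟩ : Nonempty (Sylow 2 (Perm (Fin 2))) := inferInstance
  have hT : (T : Subgroup (Perm (Fin 2))) = ⊤ := by
    apply eq_top_of_card_eq
    rw [card_sylow_perm_self, Nat.card_perm]; simp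
  set w := diagWD (Fin 2) F with hw
  obtain ⟨P, hP⟩ := exists_sylow_eq (w.isPGroup_W C.isPGroup' T.isPGroup') (by
    rw [w.card_W, C.card_eq_multiplicity, card_sylow_perm, factorization_card_gl,
      val2_gl_one_mod h1 hq', Fintype.card_fin, ← pow_mul, ← pow_add, mul_comm, Nat.card_units,
      Nat.card_eq_fintype_card, Nat.factorization_def _ Nat.prime_two])
  obtain ⟨g, hg⟩ := sylow_eq_map_conj P S
  have h2 : (S : Subgroup (GL (Fin 2) F)).map Φ =
      ((w.W C T).map Φ).map (MulAut.conj (Φ g)).toMonoidHom := by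
    rw [hg, hP, Subgroup.map_map, Subgroup.map_map]
    congr 1
    ext x; simp
  rw [h2]
  refine SqC.map ?_ _
  rw [sqC_iff_le, map_le_iff_le_comap]
  refine w.W_le (fun i c hc => ⟨⟨_, w.single_mem_W _ i hc, rfl⟩, ?_⟩) fun t ht => ?_
  · obtain ⟨j, hj⟩ := exists_ne i
    have h3 : w.β (Pi.mulSingle i c) * w.β (Pi.mulSingle j c) =
        GeneralLinearGroup.scalar (Fin 2) c := by
      rw [← map_mul]
      have : Pi.mulSingle i c * Pi.mulSingle j c = fun _ : Fin 2 => c := by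
        funext k
        fin_cases i <;> fin_cases j <;> fin_cases k <;> simp at hj ⊢
      rw [this]; rfl
    have h4 := w.conj_single (swap i j) i c
    rw [swap_apply_left] at h4
    have h5 : Φ (w.β (Pi.mulSingle i c)) ^ 2 =
        ⁅Φ (w.β (Pi.mulSingle i c)), Φ (w.σ (swap i j))⁆ := by
      have h6 := congrArg Φ h3
      rw [hΦ, map_mul, ← h4, map_mul, map_mul, map_inv] at h6
      rw [commutatorElement_def, pow_two, mul_assoc, mul_assoc]
      congr 1
      refine (eq_inv_of_mul_eq_one_left h6).trans ?_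
      group
    rw [h5]
    exact commutator_mem_commutator ⟨_, w.single_mem_W _ i hc, rfl⟩
      ⟨_, w.σ_mem_W _ (hT ▸ mem_top _), rfl⟩
  · refine mem_sqN_two ⟨_, w.σ_mem_W _ ht, rfl⟩ ?_
    rw [← map_mul, ← map_mul, (by decide : ∀ t : Perm (Fin 2), t * t = 1), map_one, map_one]

theorem exists_sylow_inf {G : Type*} [Group G] [Finite G] {p : ℕ} [Fact p.Prime] (A : Subgroup G)
    [hA : A.Normal] (W : Sylow p G) :
    Nat.card ((W : Subgroup G) ⊓ A : Subgroup G) = p ^ (Nat.card A).factorization p := by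
  obtain ⟨Q⟩ : Nonempty (Sylow p A) := inferInstance
  obtain ⟨P, hP⟩ := (Q.isPGroup'.map A.subtype).exists_le_sylow
  have hQ : (Q : Subgroup A) = ((P : Subgroup G) ⊓ A).subgroupOf A := by
    symm
    refine Q.is_maximal' ?_ ?_
    · exact (P.isPGroup'.to_inf_left).comap_of_injective A.subtype A.subtype_injective
    · intro x hx
      exact ⟨hP ⟨x, hx, rfl⟩, x.2⟩
  obtain ⟨g, hg⟩ := sylow_eq_map_conj P W
  have h2 : (W : Subgroup G) ⊓ A = ((P : Subgroup G) ⊓ A).map (MulAut.conj g).toMonoidHom := by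
    rw [Subgroup.map_inf _ _ _ (MulAut.conj g).injective, ← hg]
    congr 1
    ext x
    constructor
    · intro hx
      exact ⟨g⁻¹ * x * g, by simpa using hA.conj_mem x hx g⁻¹, by simp [mul_assoc]⟩
    · rintro ⟨y, hy, rfl⟩
      exact hA.conj_mem y hy g
  rw [h2, card_map_of_injective (MulAut.conj g).injective, ← Q.card_eq_multiplicity, hQ]
  exact (Nat.card_congr (subgroupOfEquivOfLe inf_le_right).toEquiv).symm

theorem sylSq_of_semidirect {X G : Type*} [Group X] [Finite X] [Group G] [Finite G]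
    (A : Subgroup X) [hA : A.Normal] (S : Sylow 2 X) (Φ : X →* G) (Ψ : A →* G)
    (hΨ : Function.Injective Ψ)
    (hconj : ∀ (c : X) (p : A), Φ c * Ψ p = Ψ ⟨c * p * c⁻¹, hA.conj_mem _ p.2 c⟩ * Φ c)
    (hsep : ∀ c p, Ψ p = Φ c → Φ c = 1) (h1 : SylSq 2 A) (h2 : SqC 2 ((S : Subgroup X).map Φ))
    {z : ℕ} (hz0 : z ≠ 0) (hz : Nat.card Φ.ker ∣ z)
    (hc : (Nat.card G).factorization 2 + padicValNat 2 z ≤
      (Nat.card A).factorization 2 + (Nat.card X).factorization 2) : SylSq 2 G := by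
  set Q := ((S : Subgroup X) ⊓ A).subgroupOf A with hQ
  have hQsq : SqC 2 Q := by
    refine SqC.of_map A.subtype_injective ?_
    rw [hQ, subgroupOf_map_subtype, inf_assoc, inf_idem]
    exact SylSq.inf_normal _ h1 S
  have hQc : Nat.card (Q.map Ψ) = 2 ^ (Nat.card A).factorization 2 := by
    rw [card_map_of_injective hΨ, hQ, Nat.card_congr (subgroupOfEquivOfLe inf_le_right).toEquiv,
      exists_sylow_inf]
  have hnorm : (S : Subgroup X).map Φ ≤ normalizer (Q.map Ψ : Set G) := by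
    have key : ∀ c ∈ (S : Subgroup X), ∀ x ∈ Q.map Ψ, Φ c * x * (Φ c)⁻¹ ∈ Q.map Ψ := by
      rintro c hc _ ⟨p, hp, rfl⟩
      rw [hconj, mul_inv_cancel_right]
      exact ⟨_, mem_inf.2 ⟨mul_mem (mul_mem hc (mem_inf.1 hp).1) (inv_mem hc),
        hA.conj_mem _ p.2 c⟩, rfl⟩
    rintro _ ⟨c, hc, rfl⟩
    rw [mem_normalizer_iff]
    intro x
    refine ⟨key c hc x, fun h => ?_⟩
    have := key c⁻¹ (inv_mem hc) _ h
    simpa [mul_assoc] using this
  have hinf : Q.map Ψ ⊓ (S : Subgroup X).map Φ = ⊥ := by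
    rw [eq_bot_iff]
    rintro _ ⟨⟨p, -, hp⟩, c, -, rfl⟩
    exact hsep c p hp
  have hc1 := Cfsg.Agent.H21.card_sup_mul_card_inf hnorm
  rw [hinf, card_bot, mul_one, hQc] at hc1
  have hc2 := Cfsg.Agent.H21.card_inf_mul_relIndex Φ.ker S
  rw [relIndex_ker, S.card_eq_multiplicity] at hc2
  obtain ⟨a, ha⟩ := IsPGroup.iff_card.1 (S.isPGroup'.to_inf_right (H := Φ.ker))
  have hc3 : 2 ^ a ∣ z := by
    rw [← ha]
    exact (card_dvd_of_le inf_le_left).trans hz
  have hc4 := (padicValNat_dvd_iff_le hz0).1 hc3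
  obtain ⟨b, hb⟩ := IsPGroup.iff_card.1 (S.isPGroup'.map Φ)
  rw [ha, hb, ← pow_add, Nat.pow_right_inj one_lt_two] at hc2
  rw [hb, ← pow_add] at hc1
  refine SylSq.of_sub (IsPGroup.of_card hc1) ?_ ((hQsq.map Ψ).sup h2)
  rw [hc1]
  exact Nat.pow_le_pow_right two_pos (by omega)

/-- `cdΨ` on the kernel of the determinant -/
noncomputable def cdΨ' :
    (GeneralLinearGroup.det : GL (Fin 2) F →* Fˣ).ker →* AutM F (cdMul (F := F)) :=
  cdΨ.comp H9.slEquivKerDet.symm.toMonoidHom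

omit [Fintype F] in
theorem cdΨ'_apply (p : (GeneralLinearGroup.det : GL (Fin 2) F →* Fˣ).ker) (x) :
    (cdΨ' p).1 x = (x.1, p.1.1 * x.2) := by
  obtain ⟨p, rfl⟩ := H9.slEquivKerDet.surjective p
  simp only [cdΨ', MonoidHom.comp_apply, MulEquiv.coe_toMonoidHom, MulEquiv.symm_apply_apply]
  rfl

theorem sylSq_G2 (hF : Odd (Fintype.card F)) : SylSq 2 (G2 F) := by
  classical
  have h1 := Fintype.one_lt_card (α := F)
  let e : G2 F ≃* AutM F (cdMul (F := F)) := (mulAutEquiv _).trans (AutMcongr cdEquiv cdEquiv_mul)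
  have := finite_AutM (F := F) (cdMul (F := F))
  refine SylSq.of_equiv e.symm ?_
  obtain ⟨S⟩ : Nonempty (Sylow 2 (GL (Fin 2) F)) := inferInstance
  have hker : ∀ c : GL (Fin 2) F, (∀ x, ((cdΦ c).1 x).1 = x.1) →
      c ∈ (GeneralLinearGroup.scalar (Fin 2) : Fˣ →* GL (Fin 2) F).range := fun c h =>
    GeneralLinearGroup.center_eq_range_scalar (n := Fin 2) (R := F) ▸ mem_center_of_cdΦ c h
  refine sylSq_of_semidirect _ S cdΦ cdΨ' (cdΨ_injective.comp H9.slEquivKerDet.symm.injective)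
    (fun c p => AutM_ext fun x => ?_) (fun c p hp => ?_)
    (SylSq.of_equiv H9.slEquivKerDet (sylSq_sl2 hF)) (sqC_map_gl2 hF _ cdΦ_scalar S)
    (z := Fintype.card F - 1) (by omega) ?_ ?_
  · change (cdΦ c).1 ((cdΨ' p).1 x) = (cdΨ' _).1 ((cdΦ c).1 x)
    rw [cdΨ'_apply, cdΨ'_apply, cdΦ_apply, cdΦ_apply]
    simp only [Units.val_mul, ← mul_assoc, Units.inv_mul_cancel_right]
  · obtain ⟨a, rfl⟩ := hker c fun x => by rw [← hp, cdΨ'_apply]
    exact cdΦ_scalar a
  · rw [← Nat.card_eq_fintype_card, ← Nat.card_units]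
    refine (card_dvd_of_le (K := (GeneralLinearGroup.scalar (Fin 2) : Fˣ →* GL (Fin 2) F).range)
      fun c hc => hker c fun x => ?_).trans (card_range_dvd _)
    rw [MonoidHom.mem_ker.1 hc]; rfl
  · rw [← Nat.card_congr e.toEquiv, Nat.factorization_def _ Nat.prime_two,
      ← Nat.card_congr H9.slEquivKerDet.toEquiv, H9.card_sl_two,
      Nat.factorization_def _ Nat.prime_two,
      padicValNat.mul (by omega) (pow_sub_one_ne_zero h1 two_ne_zero), val2_eq_zero hF, zero_add,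
      factorization_card_gl, val2_gl_succ h1 hF, val2_gl_succ h1 hF]
    have := val2_card_G2_le hF
    simp only [Finset.univ_eq_empty, Finset.prod_empty, padicValNat_one_right, zero_add, pow_one,
      Nat.reduceAdd]
    omega

end Cfsg.Agent.H85
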