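import Mathlib
import Cfsg.Agent.H85.SylowCount

/-! Mann's lemma on commutators with an abelian normal subgroup and minimal classes. -/

set_option autoImplicit false
open Pointwise

namespace Cfsg.Agent.H85

open Subgroup

/-- If `K` is an abelian normal subgroup, `x` is not central and `t ∈ K`, then the class of
`t x t⁻¹ x⁻¹` is smaller than the class of `x`. -/
theorem index_centralizer_commutator_lt {G : Type*} [Group G] [Finite G] (K : Subgroup G)
    [hK : K.Normal] (hc : ∀ a ∈ K, ∀ b ∈ K, a * b = b * a) {x t : G} (hx : x ∉ center G)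
    (ht : t ∈ K) :
    (centralizer ({t * x * t⁻¹ * x⁻¹} : Set G)).index < (centralizer ({x} : Set G)).index := by
  classical
  set C := centralizer ({x} : Set G) with hC
  set y := t * x * t⁻¹ * x⁻¹ with hy
  set D := centralizer ({y} : Set G) with hD
  have hC1 : 1 < C.index := one_lt_index_of_ne_top fun h => hx (by
    rw [hC, centralizer_eq_top_iff_subset] at h; exact h rfl)
  by_cases hy1 : y = 1
  · have : D = ⊤ := by
      rw [hD, centralizer_eq_top_iff_subset, hy1]; simp
    rw [this, index_top]; exact hC1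
  have hmem : ∀ k ∈ K, k * x * k⁻¹ * x⁻¹ ∈ K := fun k hk => by
    have := K.mul_mem hk (hK.conj_mem _ (K.inv_mem hk) x)
    simpa [mul_assoc] using this
  have hyK : y ∈ K := hmem t ht
  -- the map `k ↦ [k, x]` on `K`
  let θ : K →* G :=
    { toFun := fun k => k * x * (k : G)⁻¹ * x⁻¹
      map_one' := by simp
      map_mul' := fun a b => by
        have h1 := hc _ a.2 _ (hmem b b.2)
        have h2 := hc _ (hmem a a.2) _ (hmem b b.2)
        push_cast
        rw [h2]
        calc (a : G) * b * x * ((a : G) * b)⁻¹ * x⁻¹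
            = (a * (b * x * (b : G)⁻¹ * x⁻¹)) * (x * (a : G)⁻¹ * x⁻¹) := by group
          _ = _ := by rw [h1]; group }
  have hker : θ.ker = C.subgroupOf K := by
    ext k
    rw [MonoidHom.mem_ker, mem_subgroupOf, hC, mem_centralizer_singleton_iff]
    show (k : G) * x * (k : G)⁻¹ * x⁻¹ = 1 ↔ _
    rw [mul_inv_eq_one, mul_inv_eq_iff_eq_mul]
  have hrange : Nat.card θ.range = C.relIndex K := by
    rw [relIndex, ← hker, index_ker]
  set H := K ⊔ C with hH
  have h1 : C.relIndex H = C.relIndex K := relIndex_sup_of_normal K C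
  -- the orbit of `y` under `H`
  have h2 : D.relIndex H < C.relIndex H := by
    rw [h1, ← hrange]
    let f : H ⧸ D.subgroupOf H → θ.range := fun q => ⟨(q.out : G) * y * (q.out : G)⁻¹, by
      obtain ⟨k, hk, c, hc', hkc⟩ := mem_sup_normal_left q.out.2
      rw [hkc]
      refine ⟨⟨c * t * c⁻¹, hK.conj_mem t ht c⟩, ?_⟩
      have h3 : c * x = x * c := mem_centralizer_singleton_iff.mp hc'
      have h4 : c * y * c⁻¹ = (c * t * c⁻¹) * x * (c * t * c⁻¹)⁻¹ * x⁻¹ := by
        have h5 : x = c * x * c⁻¹ := by rw [h3]; group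
        conv_rhs => rw [h5]
        rw [hy]; group
      have h6 := hc k hk _ (hK.conj_mem y hyK c)
      show (c * t * c⁻¹) * x * (c * t * c⁻¹)⁻¹ * x⁻¹ = _
      rw [← h4]
      calc c * y * c⁻¹ = (c * y * c⁻¹ * k) * k⁻¹ := by group
        _ = _ := by rw [← h6]; group⟩
    have hf : Function.Injective f := by
      intro q r hqr
      have h3 : (q.out : G) * y * (q.out : G)⁻¹ = (r.out : G) * y * (r.out : G)⁻¹ :=
        congrArg Subtype.val hqr
      rw [← q.out_eq, ← r.out_eq]
      apply QuotientGroup.eq.mpr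
      rw [mem_subgroupOf]
      apply mem_centralizer_singleton_iff.mpr
      push_cast
      calc (q.out : G)⁻¹ * r.out * y = (q.out : G)⁻¹ * (r.out * y * (r.out : G)⁻¹) * r.out := by group
        _ = _ := by rw [← h3]; group
    have hns : (1 : θ.range) ∉ Set.range f := by
      rintro ⟨q, hq⟩
      have h3 : (q.out : G) * y * (q.out : G)⁻¹ = 1 := congrArg Subtype.val hq
      apply hy1
      simpa using h3
    have := Fintype.ofFinite θ.range
    have := Fintype.ofFinite (H ⧸ D.subgroupOf H)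
    rw [relIndex, index, Nat.card_eq_fintype_card, Nat.card_eq_fintype_card]
    exact Fintype.card_lt_of_injective_of_notMem f hf hns
  have h3 := relIndex_mul_index (le_sup_right : C ≤ H)
  have h4 := relIndex_mul_index (inf_le_right : D ⊓ H ≤ H)
  rw [inf_relIndex_right] at h4
  have h5 : D.index ≤ (D ⊓ H).index :=
    Nat.le_of_dvd (Nat.pos_of_ne_zero index_ne_zero_of_finite) (index_dvd_of_le inf_le_left)
  have h6 : 0 < H.index := Nat.pos_of_ne_zero index_ne_zero_of_finite
  calc D.index ≤ D.relIndex H * H.index := h4 ▸ h5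
    _ < C.relIndex H * H.index := Nat.mul_lt_mul_of_pos_right h2 h6
    _ = C.index := h3

/-- An element of minimal class size acts trivially on `K` modulo the centre. -/
theorem commutator_mem_center_of_min {G : Type*} [Group G] [Finite G] (K : Subgroup G)
    [hK : K.Normal] (hc : ∀ a ∈ K, ∀ b ∈ K, a * b = b * a) {x t : G} (ht : t ∈ K)
    (hmin : ∀ y : G, 1 < (centralizer ({y} : Set G)).index →
      (centralizer ({x} : Set G)).index ≤ (centralizer ({y} : Set G)).index) :
    t * x * t⁻¹ * x⁻¹ ∈ center G := by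
  by_cases hx : x ∈ center G
  · rw [mem_center_iff.mp hx t]; simp [one_mem]
  have h1 := index_centralizer_commutator_lt K hc hx ht
  by_contra h2
  have h3 := hmin (t * x * t⁻¹ * x⁻¹) (one_lt_index_of_ne_top fun h => h2 (by
    rw [centralizer_eq_top_iff_subset] at h; exact h rfl))
  omega

/-- The elements acting trivially on `K` modulo the centre. -/
def centMod {G : Type*} [Group G] (K : Subgroup G) : Subgroup G where
  carrier := {x | ∀ t ∈ K, t * x * t⁻¹ * x⁻¹ ∈ center G}
  one_mem' := fun t _ => by simp [one_mem]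
  mul_mem' := fun {a b} ha hb t ht => by
    have h1 : t * (a * b) * t⁻¹ * (a * b)⁻¹ =
        (t * a * t⁻¹ * a⁻¹) * (a * (t * b * t⁻¹ * b⁻¹) * a⁻¹) := by group
    rw [h1]
    exact mul_mem (ha t ht) (Normal.conj_mem inferInstance _ (hb t ht) a)
  inv_mem' := fun {a} ha t ht => by
    have h1 : t * a⁻¹ * t⁻¹ * a⁻¹⁻¹ = a⁻¹ * (t * a * t⁻¹ * a⁻¹)⁻¹ * a⁻¹⁻¹ := by group
    rw [h1]
    exact Normal.conj_mem inferInstance _ (inv_mem (ha t ht)) _

theorem commutator_mem_centralizer_of_mem_centMod {G : Type*} [Group G] {K : Subgroup G}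
    {x y : G} (hx : x ∈ centMod K) (hy : y ∈ centMod K) :
    x * y * x⁻¹ * y⁻¹ ∈ centralizer (K : Set G) := by
  rw [mem_centralizer_iff]
  intro t ht
  obtain ⟨u, hu, hxu⟩ : ∃ u ∈ center G, t * x = u * (x * t) := ⟨_, hx t ht, by group⟩
  obtain ⟨v, hv, hyv⟩ : ∃ v ∈ center G, t * y = v * (y * t) := ⟨_, hy t ht, by group⟩
  have hu' := mem_center_iff.mp hu
  have hv' := mem_center_iff.mp hv
  have h1 : t * (x * y) = (u * v) * (x * y * t) := by
    rw [← mul_assoc, hxu, mul_assoc, mul_assoc x t y, hyv, ← mul_assoc x v, hv' x]; group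
  have h2 : t * (y * x) = (u * v) * (y * x * t) := by
    rw [← mul_assoc, hyv, mul_assoc, mul_assoc y t x, hxu, ← mul_assoc y u, hu' y, ← hu' v]
    group
  have h3 : (y * x)⁻¹ * t = (u * v) * (t * (y * x)⁻¹) := by
    have h4 : (y * x)⁻¹ * t = (y * x)⁻¹ * (t * (y * x)) * (y * x)⁻¹ := by group
    rw [h4, h2, ← mul_assoc (y * x)⁻¹ (u * v), mem_center_iff.mp (mul_mem hu hv) (y * x)⁻¹]
    group
  calc t * (x * y * x⁻¹ * y⁻¹) = t * (x * y) * (y * x)⁻¹ := by group
    _ = (x * y) * ((u * v) * (t * (y * x)⁻¹)) := by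
      rw [h1, ← mul_assoc (x * y) (u * v), mem_center_iff.mp (mul_mem hu hv) (x * y)]; group
    _ = _ := by rw [← h3]; group

/-- A finite group has a maximal abelian normal subgroup. -/
theorem exists_maximal_abelian_normal (G : Type*) [Group G] [Finite G] :
    ∃ N : Subgroup G, N.Normal ∧ IsMulCommutative N ∧
      ∀ M : Subgroup G, M.Normal → IsMulCommutative M → N ≤ M → M = N := by
  obtain ⟨N, hN, hmax⟩ := Set.Finite.exists_maximal
    (Set.toFinite {N : Subgroup G | N.Normal ∧ IsMulCommutative N})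
    ⟨⊥, inferInstance, inferInstance⟩
  exact ⟨N, hN.1, hN.2, fun M h1 h2 h3 => le_antisymm (hmax ⟨h1, h2⟩ h3) h3⟩

end Cfsg.Agent.H85
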