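/-
Normal 2-rank of wreath products.
-/
import Cfsg.Agent.H85.Tori
import Cfsg.Agent.H85.SLSyl

set_option autoImplicit false

namespace Cfsg.Agent.H85

open Subgroup Matrix Equiv

/-- the normal `2`-rank of `H` is `k` -/
def NR (k : ℕ) (H : Type*) [Group H] : Prop :=
  (∃ E : Subgroup H, E.Normal ∧ IsElementaryAbelian 2 E ∧ 2 ^ k ≤ Nat.card E) ∧
    ∀ E : Subgroup H, E.Normal → IsElementaryAbelian 2 E → Nat.card E ≤ 2 ^ k

section
variable {H K : Type*} [Group H] [Group K]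

theorem elem_map {E : Subgroup H} (h : IsElementaryAbelian 2 E) (f : H →* K) :
    IsElementaryAbelian 2 (E.map f) := by
  have := h.1
  refine ⟨inferInstance, ?_⟩
  rintro _ ⟨a, ha, rfl⟩
  rw [← map_pow, h.2 a ha, map_one]

theorem elem_of_sq {E : Subgroup H} (h : ∀ a ∈ E, a ^ 2 = 1) : IsElementaryAbelian 2 E := by
  refine ⟨⟨⟨fun a b => Subtype.ext ?_⟩⟩, h⟩
  have h1 : ∀ a ∈ E, a⁻¹ = a := fun a ha => inv_eq_of_mul_eq_one_left (by rw [← pow_two, h a ha])
  change (a : H) * b = b * a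
  rw [← h1 _ (mul_mem a.2 b.2), _root_.mul_inv_rev, h1 _ a.2, h1 _ b.2]

theorem NR.of_equiv {k : ℕ} (h : NR k K) (e : H ≃* K) : NR k H := by
  obtain ⟨⟨E, h1, h2, h3⟩, h4⟩ := h
  refine ⟨⟨E.map e.symm.toMonoidHom, h1.map _ e.symm.surjective, elem_map h2 _, ?_⟩,
    fun E h1 h2 => ?_⟩
  · rwa [card_map_of_injective e.symm.injective]
  · have := h4 _ (h1.map e.toMonoidHom e.surjective) (elem_map h2 _)
    rwa [card_map_of_injective e.injective] at this

theorem NR.prod [Finite H] [Finite K] {a b : ℕ} (h : NR a H) (h' : NR b K) : NR (a + b) (H × K) := by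
  obtain ⟨⟨E, h1, h2, h3⟩, h4⟩ := h
  obtain ⟨⟨E', h1', h2', h3'⟩, h4'⟩ := h'
  refine ⟨⟨E.prod E', inferInstance, elem_of_sq fun x hx => Prod.ext (h2.2 _ hx.1) (h2'.2 _ hx.2),
    ?_⟩, fun E h1 h2 => ?_⟩
  · rw [Nat.card_congr (E.prodEquiv E').toEquiv, Nat.card_prod, pow_add]
    exact Nat.mul_le_mul h3 h3'
  · refine (card_le_of_le (Subgroup.le_prod_iff.2 ⟨le_rfl, le_rfl⟩ : E ≤ _)).trans ?_
    rw [Nat.card_congr (Subgroup.prodEquiv _ _).toEquiv, Nat.card_prod, pow_add]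
    exact Nat.mul_le_mul (h4 _ (h1.map _ Prod.fst_surjective) (elem_map h2 _))
      (h4' _ (h1.map _ Prod.snd_surjective) (elem_map h2 _))

theorem nr_two : NR 1 (Multiplicative (ZMod 2)) :=
  ⟨⟨⊤, inferInstance, elem_of_sq fun a h => by clear h; revert a; decide, by simp⟩,
    fun E _ _ => (card_le_card_group E).trans (by simp)⟩

theorem nr_of_le [Finite H] {S Z : Subgroup H} {k : ℕ} (hZ : Z ≤ S) (hn : S ≤ normalizer (Z : Set H))
    (h2 : ∀ z ∈ Z, z ^ 2 = 1) (hc : Nat.card Z = 2 ^ k)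
    (h : ∀ x ∈ S, (∀ y ∈ S, (y * x * y⁻¹ * x) ^ 2 = 1) → x ^ 2 = 1 → x ∈ Z) : NR k S := by
  have hc' : Nat.card (Z.subgroupOf S) = 2 ^ k := by
    rw [← hc]; exact Nat.card_congr (subgroupOfEquivOfLe hZ).toEquiv
  refine ⟨⟨Z.subgroupOf S, (normal_subgroupOf_iff_le_normalizer hZ).2 hn,
    elem_of_sq fun a ha => Subtype.ext (h2 _ ha), hc'.ge⟩, fun E h1 h3 => ?_⟩
  rw [← hc']
  exact card_le_of_le fun x hx => h x x.2 (fun y hy => congrArg Subtype.val
    (h3.2 _ (mul_mem (h1.conj_mem x hx ⟨y, hy⟩) hx))) (congrArg Subtype.val (h3.2 x hx))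

end

theorem WD.nr_W {ι L G : Type*} [Fintype ι] [Group L] [Group G] [Finite G] (w : WD ι L G)
    {D : Subgroup L} (T : Subgroup (Perm ι)) {z d : L} (hz : z ∈ D) (hz2 : orderOf z = 2)
    (hzc : ∀ y ∈ D, y * z = z * y) (hd : d ∈ D) (hd2 : d ^ 2 ≠ 1)
    (h : ∀ x ∈ D, (∀ y ∈ D, (y * x * y⁻¹ * x) ^ 2 = 1) → x ^ 2 = 1 → x ∈ zpowers z) :
    NR (Fintype.card ι) (w.W D T) := by
  classical
  refine nr_of_le (Z := w.B (zpowers z)) (le_sup_of_le_left (map_mono
    fun _ hf i hi => zpowers_le.2 hz (hf i hi))) (sup_le ?_ ?_) ?_ (by rw [w.card_B, Nat.card_zpowers, hz2]) ?_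
  · refine le_trans ?_ (centralizer_le_normalizer _)
    rintro _ ⟨f, hf, rfl⟩ _ ⟨g, hg, rfl⟩
    rw [← map_mul, ← map_mul]
    congr 1
    funext i
    obtain ⟨k, hk⟩ := hg i (Set.mem_univ _)
    rw [Pi.mul_apply, Pi.mul_apply, ← hk]
    exact ((show Commute (f i) z from hzc _ (hf i (Set.mem_univ _))).zpow_right k).eq.symm
  · rintro _ ⟨t, _, rfl⟩; exact w.σ_mem_normalizer _ t
  · rintro _ ⟨g, hg, rfl⟩
    rw [← map_pow, ← map_one w.β]
    congr 1
    funext i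
    obtain ⟨k, hk⟩ := hg i (Set.mem_univ _)
    rw [Pi.pow_apply, ← hk, ← hz2, ← zpow_natCast, ← _root_.zpow_mul, mul_comm, _root_.zpow_mul,
      zpow_natCast, pow_orderOf_eq_one, _root_.one_zpow, Pi.one_apply]
  intro x hx h1 h2
  obtain ⟨f, hf, t, ht, rfl⟩ := w.mem_W.1 hx
  have ht1 : t = 1 := by
    by_contra hne
    obtain ⟨i, hi⟩ : ∃ i, t i ≠ i := by
      by_contra! h; exact hne (Equiv.ext h)
    have h3 := h1 _ (w.single_mem_W T i hd)
    have hx2 : w.β f * w.σ t = (w.β f * w.σ t)⁻¹ := eq_inv_of_mul_eq_one_left (by rw [← pow_two, h2])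
    have h4 : w.β (Pi.mulSingle i d) * (w.β f * w.σ t) * (w.β (Pi.mulSingle i d))⁻¹ *
        (w.β f * w.σ t) = w.β (Pi.mulSingle i d * (f * Pi.mulSingle (t i) d⁻¹ * f⁻¹)) := by
      nth_rw 2 [hx2]
      rw [map_mul, map_mul, map_mul, ← w.conj_single, map_inv, Pi.mulSingle_inv, map_inv]
      group
    rw [h4, ← map_pow, ← map_one w.β] at h3
    have h5 := congrFun (w.β_inj h3) i
    simp [Pi.mulSingle_eq_of_ne hi.symm] at h5
    exact hd2 h5
  subst ht1
  rw [map_one, mul_one] at *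
  refine w.β_mem_B fun i => h _ (hf i) (fun y hy => ?_) ?_
  · have h3 := h1 _ (w.single_mem_W T i hy)
    rw [← map_inv, ← map_mul, ← map_mul, ← map_mul, ← map_pow, ← map_one w.β] at h3
    simpa using congrFun (w.β_inj h3) i
  · rw [← map_pow, ← map_one w.β] at h2
    exact congrFun (w.β_inj h2) i

section
variable {F : Type*} [Field F]

theorem two_inv_eq (h2 : (2 : F) ≠ 0) {m : Matrix (Fin 2) (Fin 2) F} (h : m ^ 2 = 1)
    (hd : m.det = 1) : m = 1 ∨ m = -1 := by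
  rw [pow_two] at h
  rw [det_fin_two] at hd
  have h00 := congrFun (congrFun h 0) 0
  have h01 := congrFun (congrFun h 0) 1
  have h10 := congrFun (congrFun h 1) 0
  simp [Matrix.mul_apply, Fin.sum_univ_two] at h00 h01 h10
  have ht : m 0 0 + m 1 1 ≠ 0 := fun h0 => h2 (by linear_combination (m 0 0) * h0 - h00 - hd)
  have hb : m 0 1 = 0 := mul_left_cancel₀ ht (by linear_combination h01)
  have hc : m 1 0 = 0 := mul_left_cancel₀ ht (by linear_combination h10)
  rw [hb, zero_mul] at h00 hd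
  rcases mul_self_eq_one_iff.1 (by linear_combination h00 : m 0 0 * m 0 0 = 1) with ha | ha
  · left
    have : m 1 1 = 1 := by rw [ha] at hd; linear_combination hd
    ext i j; fin_cases i <;> fin_cases j <;> simp [*]
  · right
    have : m 1 1 = -1 := by rw [ha] at hd; linear_combination -hd
    ext i j; fin_cases i <;> fin_cases j <;> simp [*]

theorem isSquare_of_sq_eq_neg (h2 : (2 : F) ≠ 0) {m : Matrix (Fin 2) (Fin 2) F} (h : m ^ 2 = -1)
    (hd : m.det = -1) : IsSquare (-1 : F) := by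
  rw [pow_two] at h
  rw [det_fin_two] at hd
  have h00 := congrFun (congrFun h 0) 0
  have h01 := congrFun (congrFun h 0) 1
  simp [Matrix.mul_apply, Fin.sum_univ_two] at h00 h01
  have ht : m 0 0 + m 1 1 ≠ 0 := fun h0 => h2 (by linear_combination h00 + hd - (m 0 0) * h0)
  have hb : m 0 1 = 0 := mul_left_cancel₀ ht (by linear_combination h01)
  exact ⟨m 0 0, by rw [hb] at h00; linear_combination -h00⟩

end

theorem exists_sylow_mem {G : Type*} [Group G] {p : ℕ} [Fact p.Prime] {g : G} {k : ℕ}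
    (h : g ^ p ^ k = 1) : ∃ D : Sylow p G, g ∈ (D : Subgroup G) := by
  have hp : IsPGroup p (zpowers g) := by
    rintro ⟨_, j, rfl⟩
    refine ⟨k, Subtype.ext ?_⟩
    change (g ^ j) ^ p ^ k = 1
    rw [← zpow_natCast, ← _root_.zpow_mul, mul_comm, _root_.zpow_mul, zpow_natCast, h,
      _root_.one_zpow]
  obtain ⟨D, hD⟩ := hp.exists_le_sylow
  exact ⟨D, hD (mem_zpowers g)⟩

end Cfsg.Agent.H85
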